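import Groth.Agent.ResProp.EF.Base
import Mathlib.Algebra.Category.ModuleCat.Presheaf.ChangeOfRings
import Mathlib.RingTheory.TensorProduct.Basic
import Mathlib.RingTheory.TensorProduct.Finite
import Mathlib.Algebra.Algebra.Epi
import Mathlib.RingTheory.RingHom.Flat
import Mathlib.RingTheory.FiniteType

/-!
# Base change of groupoid rings `A ⊗[ℤ] k` and restriction along cartesian homomorphisms (helper944; seam LOC)

* `CartHom.gr` : a cartesian homomorphism `A ⟶ B` of groupoid rings, `GR A` gives `GR B`.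
* `lam k A` : the groupoid ring `n ↦ A⟨n⟩ ⊗[ℤ] k`; `jl k A : A ⟶ lam k A` is cartesian; smoothness; finite type over `k`.
* `resC hj : Comod B ⥤ Comod A` for a cartesian homomorphism `j : A ⟶ B`.
-/

set_option autoImplicit false
set_option linter.dupNamespace false
set_option linter.style.haveILetI false

open CategoryTheory CategoryTheory.Limits Opposite TensorProduct

namespace Groth.Agent.ResProp.EF.K944

open K784.BC K784.PM K741.RP EF56

universe w v u

section Gen

variable {A B : NFᵒᵖ ⥤ CommRingCat.{u}}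

/-- a cartesian homomorphism transports `GR` -/
theorem gr_of_cartHom {j : A ⟶ B} (hj : CartHom j) (hA : GR A) : GR B where
  ff a := (hj (pr a)).ff (hA.ff a)
  po {a b} φ := by
    have s1 := hA.po φ
    have s2 := (hj (pr a)).flip
    have s3 := (hj (pr b)).flip
    have s4 := IsPushout.paste_horiz s1 s2
    have e1 : CommRingCat.ofHom (rg A φ) ≫ CommRingCat.ofHom (j.app (op a)).hom =
        CommRingCat.ofHom (j.app (op b)).hom ≫ CommRingCat.ofHom (rg B φ) := j.naturality φ.op
    have e2 : CommRingCat.ofHom (rg A (wmap φ)) ≫ CommRingCat.ofHom (j.app (op (⟨a.n + 1⟩ : NF))).hom =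
        CommRingCat.ofHom (j.app (op (⟨b.n + 1⟩ : NF))).hom ≫ CommRingCat.ofHom (rg B (wmap φ)) :=
      j.naturality (wmap φ).op
    rw [e1, e2] at s4
    refine IsPushout.of_left s4 ?_ s3
    have e3 : B.map φ.op ≫ B.map (pr a).op = B.map (pr b).op ≫ B.map (wmap φ).op := by
      rw [← B.map_comp, ← B.map_comp, ← op_comp, ← op_comp, wmap_pr]
    exact e3

end Gen

section Tens

variable (k : Type u) [CommRing k]

/-- base change to `k` as an endofunctor of rings -/
noncomputable def tensF : CommRingCat.{u} ⥤ CommRingCat.{u} where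
  obj R := CommRingCat.of (R ⊗[ℤ] k)
  map f := CommRingCat.ofHom (Algebra.TensorProduct.map f.hom.toIntAlgHom (AlgHom.id ℤ k)).toRingHom
  map_id R := by
    refine CommRingCat.hom_ext (RingHom.ext fun x => ?_)
    change (Algebra.TensorProduct.map (RingHom.id R).toIntAlgHom (AlgHom.id ℤ k)) x = x
    have : (RingHom.id R).toIntAlgHom = AlgHom.id ℤ R := rfl
    rw [this, Algebra.TensorProduct.map_id]
    rfl
  map_comp f g := by
    refine CommRingCat.hom_ext (RingHom.ext fun x => ?_)
    change (Algebra.TensorProduct.map (g.hom.comp f.hom).toIntAlgHom (AlgHom.id ℤ k)) x =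
      (Algebra.TensorProduct.map g.hom.toIntAlgHom (AlgHom.id ℤ k))
        (Algebra.TensorProduct.map f.hom.toIntAlgHom (AlgHom.id ℤ k) x)
    have : (g.hom.comp f.hom).toIntAlgHom = g.hom.toIntAlgHom.comp f.hom.toIntAlgHom := rfl
    rw [← AlgHom.comp_apply, ← Algebra.TensorProduct.map_comp, this, AlgHom.comp_id]

/-- the groupoid ring `A ⊗ k` -/
noncomputable def lam (A : NFᵒᵖ ⥤ CommRingCat.{u}) : NFᵒᵖ ⥤ CommRingCat.{u} := A ⋙ tensF k

/-- `A ⟶ A ⊗ k` -/
noncomputable def jl (A : NFᵒᵖ ⥤ CommRingCat.{u}) : A ⟶ lam k A where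
  app X := CommRingCat.ofHom (Algebra.TensorProduct.includeLeftRingHom : A.obj X →+* A.obj X ⊗[ℤ] k)
  naturality X Y f := by
    ext x
    change (A.map f).hom x ⊗ₜ[ℤ] (1 : k) = Algebra.TensorProduct.map _ _ (x ⊗ₜ[ℤ] (1 : k))
    rw [Algebra.TensorProduct.map_tmul]
    rfl

/-- `k ⟶ A ⊗ k` -/
noncomputable def kl (A : NFᵒᵖ ⥤ CommRingCat.{u}) : (Functor.const NFᵒᵖ).obj (CommRingCat.of k) ⟶ lam k A where
  app X := CommRingCat.ofHom (Algebra.TensorProduct.includeRight : k →ₐ[ℤ] A.obj X ⊗[ℤ] k).toRingHom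
  naturality X Y f := by
    ext x
    change (1 : A.obj Y) ⊗ₜ[ℤ] x = Algebra.TensorProduct.map _ _ ((1 : A.obj X) ⊗ₜ[ℤ] x)
    rw [Algebra.TensorProduct.map_tmul, map_one]
    rfl

variable {k}

theorem isPO_tens {R S : Type u} [CommRing R] [CommRing S] (f : R →+* S) :
    IsPO f (Algebra.TensorProduct.includeLeftRingHom : R →+* R ⊗[ℤ] k)
      (Algebra.TensorProduct.includeLeftRingHom : S →+* S ⊗[ℤ] k)
      (Algebra.TensorProduct.map f.toIntAlgHom (AlgHom.id ℤ k)).toRingHom := by
  have w : CommRingCat.ofHom f ≫ CommRingCat.ofHom (Algebra.TensorProduct.includeLeftRingHom : S →+* S ⊗[ℤ] k) =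
      CommRingCat.ofHom (Algebra.TensorProduct.includeLeftRingHom : R →+* R ⊗[ℤ] k) ≫
        CommRingCat.ofHom (Algebra.TensorProduct.map f.toIntAlgHom (AlgHom.id ℤ k)).toRingHom := by
    ext x
    change f x ⊗ₜ[ℤ] (1 : k) = Algebra.TensorProduct.map _ _ (x ⊗ₜ[ℤ] (1 : k))
    rw [Algebra.TensorProduct.map_tmul]
    rfl
  refine IsPushout.of_isColimit (c := PushoutCocone.mk _ _ w) (PushoutCocone.IsColimit.mk w
    (fun s => CommRingCat.ofHom (Algebra.TensorProduct.lift (A := S) (B := k) (R := ℤ) (S := ℤ)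
      s.inl.hom.toIntAlgHom (s.inr.hom.toIntAlgHom.comp Algebra.TensorProduct.includeRight)
      (fun _ _ => .all _ _)).toRingHom) ?_ ?_ ?_)
  · intro s
    refine CommRingCat.hom_ext (RingHom.ext fun x => ?_)
    refine (Algebra.TensorProduct.lift_tmul s.inl.hom.toIntAlgHom
      (s.inr.hom.toIntAlgHom.comp Algebra.TensorProduct.includeRight) (fun _ _ => .all _ _) x (1 : k)).trans ?_
    rw [map_one, mul_one]
    rfl
  · intro s
    have key : ((Algebra.TensorProduct.lift (A := S) (B := k) (R := ℤ) (S := ℤ)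
      s.inl.hom.toIntAlgHom (s.inr.hom.toIntAlgHom.comp Algebra.TensorProduct.includeRight)
      (fun _ _ => .all _ _)).comp (Algebra.TensorProduct.map f.toIntAlgHom (AlgHom.id ℤ k))) =
        s.inr.hom.toIntAlgHom := by
      refine Algebra.TensorProduct.ext' fun a b => ?_
      rw [AlgHom.comp_apply, Algebra.TensorProduct.map_tmul, Algebra.TensorProduct.lift_tmul]
      have h1 : s.inl.hom (f a) = s.inr.hom (a ⊗ₜ[ℤ] (1 : k)) := congr(($s.condition).hom a)
      change s.inl.hom (f a) * s.inr.hom ((1 : R) ⊗ₜ[ℤ] b) = s.inr.hom (a ⊗ₜ[ℤ] b)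
      rw [h1, ← map_mul, Algebra.TensorProduct.tmul_mul_tmul, mul_one, one_mul]
    refine CommRingCat.hom_ext (RingHom.ext fun x => ?_)
    exact congr($key x)
  · intro s m h1 h2
    have key : m.hom.toIntAlgHom = (Algebra.TensorProduct.lift (A := S) (B := k) (R := ℤ) (S := ℤ)
      s.inl.hom.toIntAlgHom (s.inr.hom.toIntAlgHom.comp Algebra.TensorProduct.includeRight)
      (fun _ _ => .all _ _)) := by
      refine Algebra.TensorProduct.ext' fun a b => ?_
      rw [Algebra.TensorProduct.lift_tmul]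
      have h3 : m.hom (a ⊗ₜ[ℤ] (1 : k)) = s.inl.hom a := congr(($h1).hom a)
      have h4 : m.hom ((1 : S) ⊗ₜ[ℤ] b) = s.inr.hom ((1 : R) ⊗ₜ[ℤ] b) := by
        rw [← h2]
        change _ = m.hom (Algebra.TensorProduct.map _ _ ((1 : R) ⊗ₜ[ℤ] b))
        rw [Algebra.TensorProduct.map_tmul, map_one]
        rfl
      change m.hom (a ⊗ₜ[ℤ] b) = s.inl.hom a * s.inr.hom ((1 : R) ⊗ₜ[ℤ] b)
      rw [← h3, ← h4, ← map_mul, Algebra.TensorProduct.tmul_mul_tmul, mul_one, one_mul]
    refine CommRingCat.hom_ext (RingHom.ext fun x => ?_)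
    exact congr($key x)

theorem cartHom_jl (A : NFᵒᵖ ⥤ CommRingCat.{u}) : CartHom (jl k A) := fun φ => isPO_tens (rg A φ)

theorem gr_lam {A : NFᵒᵖ ⥤ CommRingCat.{u}} (hA : GR A) : GR (lam k A) := gr_of_cartHom (cartHom_jl A) hA

theorem IsPO.smooth {R R' A B : Type u} [CommRing R] [CommRing R'] [CommRing A] [CommRing B] {ρ : R →+* R'}
    {α : R →+* A} {β : R' →+* B} {φ : A →+* B} (h : IsPO ρ α β φ) (hρ : ρ.Smooth) : φ.Smooth := by
  have h2 := RingHom.isStableUnderCobaseChange_toMorphismProperty_iff.2 RingHom.Smooth.isStableUnderBaseChange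
  exact h2.1 h.flip hρ

/-- smoothness of the first projection is preserved by cartesian homomorphisms -/
theorem smooth_of_cartHom {A B : NFᵒᵖ ⥤ CommRingCat.{u}} {j : A ⟶ B} (hj : CartHom j) {a : NF}
    (h : (rg A (pr a)).Smooth) : (rg B (pr a)).Smooth := IsPO.smooth (hj (pr a)) h

theorem finiteType_kl {A : NFᵒᵖ ⥤ CommRingCat.{u}} {X : NFᵒᵖ} (h : (Int.castRingHom (A.obj X)).FiniteType) :
    ((kl k A).app X).hom.FiniteType := by
  have h1 : Algebra.FiniteType ℤ (A.obj X) := by
    have e : algebraMap ℤ (A.obj X) = Int.castRingHom (A.obj X) := RingHom.ext_int _ _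
    rw [← e] at h
    exact (RingHom.finiteType_algebraMap (A := ℤ) (B := A.obj X)).1 h
  have h2 : Algebra.FiniteType k (k ⊗[ℤ] (A.obj X)) := Algebra.FiniteType.baseChange k
  have h3 : (algebraMap k (k ⊗[ℤ] (A.obj X))).FiniteType := RingHom.finiteType_algebraMap.2 h2
  have h4 := h3.comp_surjective (g := (Algebra.TensorProduct.comm ℤ k (A.obj X)).toRingEquiv.toRingHom)
    (Algebra.TensorProduct.comm ℤ k (A.obj X)).surjective
  have e : (Algebra.TensorProduct.includeRight : k →ₐ[ℤ] A.obj X ⊗[ℤ] k).toRingHom =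
      (Algebra.TensorProduct.comm ℤ k (A.obj X)).toRingEquiv.toRingHom.comp (algebraMap k (k ⊗[ℤ] (A.obj X))) := rfl
  change RingHom.FiniteType (Algebra.TensorProduct.includeRight : k →ₐ[ℤ] A.obj X ⊗[ℤ] k).toRingHom
  rw [e]
  exact h4

theorem flat_jl [Module.Flat ℤ k] {A : NFᵒᵖ ⥤ CommRingCat.{u}} (X : NFᵒᵖ) :
    ((jl k A).app X).hom.Flat := by
  have : Module.Flat (A.obj X) (A.obj X ⊗[ℤ] k) := inferInstance
  exact RingHom.flat_algebraMap_iff.2 this

end Tens

section Res

variable {A B : NFᵒᵖ ⥤ CommRingCat.{u}}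

/-- the underlying morphism of presheaves of rings -/
abbrev rfj (j : A ⟶ B) : rf A ⟶ rf B := Functor.whiskerRight j (forget₂ CommRingCat.{u} RingCat.{u})

/-- restriction of scalars, `PM` language -/
def resPM (j : A ⟶ B) (M : PM.{w} B) : PM.{w} A where
  obj := M.obj
  grp := M.grp
  mod a := Module.compHom (M.obj a) (j.app (op a)).hom
  map φ := M.map φ
  map_smul {x z} φ r m := by
    change M.map φ ((j.app (op z)).hom r • m) = (j.app (op x)).hom (rg A φ r) • M.map φ m
    rw [M.map_smul]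
    have e : rg B φ ((j.app (op z)).hom r) = (j.app (op x)).hom (rg A φ r) := congr(($(j.naturality φ.op)).hom r).symm
    rw [e]
  map_id := M.map_id
  map_comp := M.map_comp

theorem cart_resPM {j : A ⟶ B} (hj : CartHom j) {M : PM.{w} B} (h : M.Cart) : (resPM j M).Cart := fun x z φ =>
  @IsBC.of_po _ _ _ _ _ _ _ _ _ _ _ _ (hj φ) (M.obj z) (M.obj x) _ _ _ ((resPM j M).mod z) _ ((resPM j M).mod x)
    (fun _ _ => rfl) (fun _ _ => rfl) _ (h φ)

theorem isCart_restrict {j : A ⟶ B} (hj : CartHom j) {M : PresheafOfModules.{u} (rf B)} (h : isCart B M) :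
    isCart A ((PresheafOfModules.restrictScalars (rfj j)).obj M) := cart_resPM hj h

/-- **restriction of comodules** along a cartesian homomorphism (direct image along the affine morphism of stacks) -/
noncomputable def resC {j : A ⟶ B} (hj : CartHom j) : Comod B ⥤ Comod A :=
  (isCart A).lift ((isCart B).ι ⋙ PresheafOfModules.restrictScalars (rfj j)) fun M => isCart_restrict hj M.property

instance resC_additive {j : A ⟶ B} (hj : CartHom j) : (resC hj).Additive where
  map_add := rfl

instance resC_faithful {j : A ⟶ B} (hj : CartHom j) : (resC hj).Faithful where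
  map_injective {M N} f g h := by
    refine (isCart B).ι.map_injective ((PresheafOfModules.restrictScalars (rfj j)).map_injective ?_)
    exact congrArg (isCart A).ι.map h

/-- `v_A ∘ res = restriction of scalars ∘ v_B` -/
noncomputable def resC_vst {j : A ⟶ B} (hj : CartHom j) :
    resC hj ⋙ vst A ≅ vst B ⋙ ModuleCat.restrictScalars (j.app (op ⟨0⟩)).hom := Iso.refl _

end Res

end Groth.Agent.ResProp.EF.K944
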