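import Groth.Agent.ResProp.EF.K944.Loc
import Mathlib.CategoryTheory.Functor.ReflectsIso.Balanced
import Mathlib.CategoryTheory.Limits.Preserves.Finite
import Mathlib.Algebra.Category.Ring.Epi

/-!
# Exactness and full faithfulness of `resC` (helper944; seam LOC)
-/

set_option autoImplicit false
set_option linter.dupNamespace false
set_option linter.style.haveILetI false

open CategoryTheory CategoryTheory.Limits Opposite TensorProduct

namespace Groth.Agent.ResProp.EF.K944

open K784.BC K784.PM K741.RP EF56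

universe w v u

variable {A B : NFᵒᵖ ⥤ CommRingCat.{u}}

theorem balanced_abelian {C : Type w} [Category.{v} C] (h : Abelian C) : Balanced C := by
  letI := h
  exact balanced_of_strongMonoCategory

section Pkg

variable (pa : ComodPkg A)

theorem vst_reflectsIso (pa : ComodPkg A) : (vst A).ReflectsIsomorphisms := by
  haveI : (vst A).Faithful := by
    letI := pa.ab
    exact pa.v_eq ▸ pa.ch.faithful
  haveI : Balanced (Comod A) := balanced_abelian pa.ab
  exact reflectsIsomorphisms_of_reflectsMonomorphisms_of_reflectsEpimorphisms _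

theorem vst_finLim (pa : ComodPkg A) : PreservesFiniteLimits (vst A) := by
  letI := pa.ab
  exact pa.v_eq ▸ pa.ch.fin_lim

theorem vst_colim (pa : ComodPkg A) : PreservesColimitsOfSize.{w, v} (vst A) := by
  letI := pa.ab
  have : PreservesColimitsOfSize.{w, v} pa.ch.v := pa.ch.adj.leftAdjoint_preservesColimits
  exact pa.v_eq ▸ this

theorem resC_finLim (pa : ComodPkg A) (pb : ComodPkg B) {j : A ⟶ B} (hj : CartHom j) :
    PreservesFiniteLimits (resC hj) := by
  letI := pa.ab
  have h1 := vst_reflectsIso pa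
  have h2 := vst_finLim pa
  have h3 := vst_finLim pb
  have h4 : ReflectsFiniteLimits (vst A) :=
    ⟨fun J _ _ => reflectsLimitsOfShape_of_reflectsIsomorphisms⟩
  have h5 : PreservesFiniteLimits (ModuleCat.restrictScalars (j.app (op ⟨0⟩)).hom :
      ModuleCat.{u} (B.obj (op ⟨0⟩)) ⥤ ModuleCat.{u} (A.obj (op ⟨0⟩))) := ⟨fun J _ _ => ⟨inferInstance⟩⟩
  have h6 : PreservesFiniteLimits (resC hj ⋙ vst A) :=
    inferInstanceAs (PreservesFiniteLimits (vst B ⋙ ModuleCat.restrictScalars (j.app (op ⟨0⟩)).hom))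
  exact preservesFiniteLimits_of_reflects_of_preserves (resC hj) (vst A)

theorem resC_colim (pa : ComodPkg A) (pb : ComodPkg B) {j : A ⟶ B} (hj : CartHom j) :
    PreservesColimitsOfSize.{u, u} (resC hj) := by
  letI := pa.ab
  haveI := pa.gr
  have h0 : HasColimitsOfSize.{u, u} (Comod A) := inferInstance
  have h1 := vst_reflectsIso pa
  have h2 : PreservesColimitsOfSize.{u, u} (vst A) := vst_colim pa
  have h3 : PreservesColimitsOfSize.{u, u} (vst B) := vst_colim pb
  have h4 : ReflectsColimitsOfSize.{u, u} (vst A) :=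
    ⟨⟨fun {K} => (reflectsColimitsOfShape_of_reflectsIsomorphisms (G := vst A)).reflectsColimit⟩⟩
  have h5 : PreservesColimitsOfSize.{u, u} (ModuleCat.restrictScalars (j.app (op ⟨0⟩)).hom :
      ModuleCat.{u} (B.obj (op ⟨0⟩)) ⥤ ModuleCat.{u} (A.obj (op ⟨0⟩))) := ⟨⟨fun {K} => inferInstance⟩⟩
  have h6 : PreservesColimitsOfSize.{u, u} (resC hj ⋙ vst A) :=
    inferInstanceAs (PreservesColimitsOfSize.{u, u} (vst B ⋙ ModuleCat.restrictScalars (j.app (op ⟨0⟩)).hom))
  exact ⟨⟨fun {K} => (preservesColimitsOfShape_of_reflects_of_preserves (resC hj) (vst A)).preservesColimit⟩⟩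

end Pkg

section Epi

/-- additive maps between modules over an epimorphic extension that are linear over the base are linear -/
theorem map_smul_of_isEpi {R S M N : Type*} [CommRing R] [CommRing S] [Algebra R S] [Algebra.IsEpi R S]
    [AddCommGroup M] [Module S M] [AddCommGroup N] [Module S N] (g : M →+ N)
    (hg : ∀ (r : R) (m : M), g (algebraMap R S r • m) = algebraMap R S r • g m) (s : S) (m : M) :
    g (s • m) = s • g m := by
  letI : Module R N := Module.compHom N (algebraMap R S)
  let Φ : S ⊗[R] S →ₗ[R] N := TensorProduct.lift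
    { toFun x :=
      { toFun y := x • g (y • m)
        map_add' y y' := by rw [add_smul, map_add, smul_add]
        map_smul' r y := by
          change x • g ((r • y) • m) = algebraMap R S r • (x • g (y • m))
          rw [Algebra.smul_def, mul_smul, hg, smul_comm] }
      map_add' x x' := by
        ext y
        exact add_smul _ _ _
      map_smul' r x := by
        ext y
        change (r • x) • g (y • m) = algebraMap R S r • (x • g (y • m))
        rw [Algebra.smul_def, mul_smul] }
  have h := congrArg Φ ((Algebra.isEpi_iff_forall_one_tmul_eq R S).1 inferInstance s)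
  change (1 : S) • g (s • m) = s • g ((1 : S) • m) at h
  rwa [one_smul, one_smul] at h

/-- base change of an epimorphism `ℤ → k` -/
theorem isEpi_tens (R k : Type*) [CommRing R] [CommRing k] [Algebra.IsEpi ℤ k] : Algebra.IsEpi R (R ⊗[ℤ] k) := by
  rw [Algebra.isEpi_iff_forall_one_tmul_eq]
  intro a
  induction a using TensorProduct.induction_on with
  | zero => rw [tmul_zero, zero_tmul]
  | add x y hx hy => rw [tmul_add, add_tmul, hx, hy]
  | tmul r c =>
    let F : k ⊗[ℤ] k →ₗ[ℤ] (R ⊗[ℤ] k) ⊗[R] (R ⊗[ℤ] k) := TensorProduct.lift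
      { toFun x :=
        { toFun y := (1 ⊗ₜ[ℤ] x) ⊗ₜ[R] (1 ⊗ₜ[ℤ] y)
          map_add' y y' := by rw [tmul_add, tmul_add]
          map_smul' n y := by
            rw [RingHom.id_apply, tmul_smul]
            exact map_zsmul (TensorProduct.mk R (R ⊗[ℤ] k) (R ⊗[ℤ] k) (1 ⊗ₜ[ℤ] x)) n _ }
        map_add' x x' := by
          ext y
          change ((1 : R) ⊗ₜ[ℤ] (x + x')) ⊗ₜ[R] ((1 : R) ⊗ₜ[ℤ] y) = _
          rw [tmul_add, add_tmul]
          rfl
        map_smul' n x := by
          ext y
          change ((1 : R) ⊗ₜ[ℤ] (n • x)) ⊗ₜ[R] ((1 : R) ⊗ₜ[ℤ] y) = n • (((1 : R) ⊗ₜ[ℤ] x) ⊗ₜ[R] ((1 : R) ⊗ₜ[ℤ] y))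
          rw [tmul_smul]
          exact map_zsmul ((TensorProduct.mk R (R ⊗[ℤ] k) (R ⊗[ℤ] k)).flip ((1 : R) ⊗ₜ[ℤ] y)) n _ }
    have h := congrArg F ((Algebra.isEpi_iff_forall_one_tmul_eq ℤ k).1 inferInstance c)
    change ((1 : R) ⊗ₜ[ℤ] (1 : k)) ⊗ₜ[R] ((1 : R) ⊗ₜ[ℤ] c) = ((1 : R) ⊗ₜ[ℤ] c) ⊗ₜ[R] ((1 : R) ⊗ₜ[ℤ] (1 : k)) at h
    have e : (r ⊗ₜ[ℤ] c : R ⊗[ℤ] k) = r • ((1 : R) ⊗ₜ[ℤ] c) := by
      rw [smul_tmul', smul_eq_mul, mul_one]
    rw [e, tmul_smul, ← smul_tmul', Algebra.TensorProduct.one_def, h]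

/-- all `j_a` are epimorphisms -/
def AllEpi (j : A ⟶ B) : Prop := ∀ X : NFᵒᵖ, Epi (j.app X)

theorem allEpi_jl (k : Type u) [CommRing k] [Algebra.IsEpi ℤ k] (A : NFᵒᵖ ⥤ CommRingCat.{u}) : AllEpi (jl k A) :=
  fun X => CommRingCat.epi_iff_epi.2 (isEpi_tens (A.obj X) k)

theorem resC_full {j : A ⟶ B} (hj : CartHom j) (he : AllEpi j) : (resC hj).Full where
  map_surjective {M N} f := by
    let f₀ : (PresheafOfModules.restrictScalars (rfj j)).obj M.obj ⟶
      (PresheafOfModules.restrictScalars (rfj j)).obj N.obj := (isCart A).ι.map f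
    let g : M.obj ⟶ N.obj :=
      { app X := ModuleCat.ofHom
          { toFun m := (f₀.app X).hom m
            map_add' a b := map_add (f₀.app X).hom a b
            map_smul' s m := by
              letI := (j.app X).hom.toAlgebra
              haveI : Algebra.IsEpi (A.obj X) (B.obj X) := CommRingCat.epi_iff_epi.1 (he X)
              exact map_smul_of_isEpi (R := A.obj X) (S := B.obj X) (M := M.obj.obj X) (N := N.obj.obj X)
                (f₀.app X).hom.toAddMonoidHom (fun r m => (f₀.app X).hom.map_smul r m) s m }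
        naturality {X Y} h := by
          ext m
          exact congr(($(f₀.naturality h)).hom m) }
    refine ⟨(isCart B).fullyFaithfulι.preimage g, ?_⟩
    refine (isCart A).ι.map_injective ?_
    rfl

end Epi

end Groth.Agent.ResProp.EF.K944
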